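import Mathlib.FieldTheory.Finite.Extension
import Mathlib.FieldTheory.IsAlgClosed.AlgebraicClosure
import Mathlib.FieldTheory.IsAlgClosed.Basic

/-!
# Finite extensions of finite fields in any universe
-/

noncomputable section

universe u

namespace ZetaPtsLib

theorem exists_ext (k : Type u) [Field k] [Finite k] {m : ℕ} (hm : m ≠ 0) :
    ∃ (K : Type u) (_ : Field K) (_ : Algebra k K) (_ : Finite K), Module.finrank k K = m := by
  obtain ⟨p, hp⟩ := CharP.exists k
  haveI : Fact p.Prime := ⟨CharP.char_is_prime k p⟩
  haveI : NeZero m := ⟨hm⟩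
  let L := FiniteField.Extension k p m
  haveI : Algebra.IsAlgebraic k L := Algebra.IsAlgebraic.of_finite k L
  let σ : L →ₐ[k] AlgebraicClosure k := IsAlgClosed.lift
  let e := AlgEquiv.ofInjectiveField σ
  exact ⟨σ.fieldRange, inferInstance, inferInstance, Finite.of_equiv L e.toEquiv,
    (e.toLinearEquiv.finrank_eq).symm.trans (FiniteField.finrank_extension k p m)⟩

end ZetaPtsLib

end
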