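import Groth.Agent.ZetaPtsLib.Basic
import Mathlib.AlgebraicGeometry.Morphisms.Immersion

/-!
# Point counts and partitions
-/

set_option linter.style.haveILetI false
set_option backward.isDefEq.respectTransparency false

noncomputable section

universe u v

open CategoryTheory AlgebraicGeometry WeilLib

namespace ZetaPtsLib

variable {k : Type u} [Field k] [Finite k] {X Y : Scheme.{u}} (f : X ⟶ Spec (CommRingCat.of k))

omit [Finite k] in
theorem resMap_comp (g : Y ⟶ X) (y : Y) : resMap (g ≫ f) y = resMap f (g y) ≫ g.residueFieldMap y := by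
  apply Spec.map_injective
  rw [SpecMap_resMap, Spec.map_comp, SpecMap_resMap, ← Category.assoc, ← Category.assoc]
  congr 1
  exact (Scheme.Hom.SpecMap_residueFieldMap_fromSpecResidueField g y).symm

omit [Finite k] in
theorem residueFieldMap_bijective (g : Y ⟶ X) [IsPreimmersion g] (y : Y) :
    Function.Bijective (g.residueFieldMap y) := by
  refine ⟨RingHom.injective (g.residueFieldMap y).hom, fun z => ?_⟩
  obtain ⟨w, rfl⟩ := Y.residue_surjective y z
  obtain ⟨v, rfl⟩ := g.stalkMap_surjective y w
  exact ⟨X.residue _ v, ConcreteCategory.congr_hom (Scheme.residue_residueFieldMap g y) v⟩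

theorem residueDegree_immersion (g : Y ⟶ X) [IsPreimmersion g] (y : Y) :
    EGA4loc.residueDegree (g ≫ f) y = EGA4loc.residueDegree f (g y) := by
  rw [residueDegree_eq_finrank, residueDegree_eq_finrank]
  letI := (resMap f (g y)).hom.toAlgebra
  letI := (resMap (g ≫ f) y).hom.toAlgebra
  refine (Algebra.finrank_eq_of_equiv_equiv (RingEquiv.refl k)
    (RingEquiv.ofBijective (g.residueFieldMap y).hom (residueFieldMap_bijective g y)) ?_).symm
  ext a
  exact ConcreteCategory.congr_hom (resMap_comp f g y) a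

omit [Finite k] in
theorem isClosed_iff_immersion [JacobsonSpace X] (g : Y ⟶ X) [IsImmersion g] (y : Y) :
    IsClosed ({y} : Set Y) ↔ IsClosed ({g y} : Set X) := by
  constructor
  · intro h
    refine isClosed_singleton_of_isLocallyClosed_singleton ?_
    have := g.isEmbedding.isInducing.isLocallyClosed_iff.1 h.isLocallyClosed
    obtain ⟨s, hs, hsy⟩ := this
    have h2 : ({g y} : Set X) = s ∩ Set.range g := by
      rw [← Set.image_singleton, ← hsy, Set.image_preimage_eq_inter_range]
    rw [h2]
    exact hs.inter g.isLocallyClosed_range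
  · intro h
    rw [show ({y} : Set Y) = g ⁻¹' {g y} by ext z; simp [g.isEmbedding.injective.eq_iff]]
    exact h.preimage g.continuous

/-- The point counts of a partition by immersed subschemes add up. -/
theorem nPts_partition [LocallyOfFiniteType f] [QuasiCompact f] {ι : Type v} [Fintype ι]
    {Z : ι → Scheme.{u}} (g : ∀ i, Z i ⟶ X) [∀ i, IsImmersion (g i)]
    (hpart : ∀ x : X, IsClosed ({x} : Set X) → ∃! i, x ∈ Set.range (g i).base) (m : ℕ) :
    Zeta.nPts f m = ∑ i, Zeta.nPts (g i ≫ f) m := by
  classical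
  have : JacobsonSpace X := LocallyOfFiniteType.jacobsonSpace f
  simp only [Zeta.nPts]
  rw [Finset.sum_comm]
  refine Finset.sum_congr rfl fun e he => ?_
  rw [← Finset.mul_sum]
  congr 1
  have he0 : e ≠ 0 := (Nat.pos_of_mem_divisors he).ne'
  have hfin := finite_closed_deg f he0
  let φ : (Σ i, {y : Z i // IsClosed ({y} : Set (Z i)) ∧ EGA4loc.residueDegree (g i ≫ f) y = e}) →
      {x : X // IsClosed ({x} : Set X) ∧ EGA4loc.residueDegree f x = e} := fun p =>
    ⟨g p.1 p.2.1, (isClosed_iff_immersion (g p.1) p.2.1).1 p.2.2.1,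
      (residueDegree_immersion f (g p.1) p.2.1).symm.trans p.2.2.2⟩
  have hφ : Function.Bijective φ := by
    constructor
    · rintro ⟨i, y⟩ ⟨j, z⟩ h
      have h' : g i y.1 = g j z.1 := congrArg Subtype.val h
      obtain ⟨l, -, hl⟩ := hpart _ (φ ⟨i, y⟩).2.1
      obtain rfl : i = j := (hl i ⟨y.1, rfl⟩).trans (hl j ⟨z.1, h'.symm⟩).symm
      obtain rfl : y = z := Subtype.ext ((g i).isEmbedding.injective h')
      rfl
    · rintro ⟨x, hx, hxe⟩
      obtain ⟨i, ⟨y, rfl⟩, -⟩ := hpart x hx
      exact ⟨⟨i, y, (isClosed_iff_immersion (g i) y).2 hx, (residueDegree_immersion f (g i) y).trans hxe⟩, rfl⟩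
  haveI : Finite {x : X // IsClosed ({x} : Set X) ∧ EGA4loc.residueDegree f x = e} := hfin.to_subtype
  haveI : ∀ i, Finite {y : Z i // IsClosed ({y} : Set (Z i)) ∧ EGA4loc.residueDegree (g i ≫ f) y = e} := fun i =>
    Finite.of_injective (fun y => φ ⟨i, y⟩) (hφ.1.comp sigma_mk_injective)
  rw [Zeta.degCount, ← Nat.card_eq_of_bijective φ hφ, Nat.card_sigma]
  rfl

end ZetaPtsLib

end
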