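import Groth.Agent.WeilLib.Frob
import Groth.Prelude.Def_SgaExt
import Mathlib.FieldTheory.IsAlgClosed.AlgebraicClosure
import Mathlib.FieldTheory.IsAlgClosed.Basic
import Mathlib.FieldTheory.Finite.Basic

/-!
# `Zeta.nPts` counts rational points
-/

set_option linter.style.haveILetI false
set_option backward.isDefEq.respectTransparency false

noncomputable section

universe u

open CategoryTheory AlgebraicGeometry WeilLib

namespace ZetaPtsLib

variable {k : Type u} [Field k] {X : Scheme.{u}} (f : X ⟶ Spec (CommRingCat.of k))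
variable (K : Type u) [Field K] [Algebra k K]

/-- Points with values in a field are points with an embedding of the residue field. -/
def pointsEquiv : { g : Spec (CommRingCat.of K) ⟶ X // g ≫ f = Spec.map (CommRingCat.ofHom (algebraMap k K)) } ≃
    Σ x : X, { ι : X.residueField x ⟶ CommRingCat.of K // resMap f x ≫ ι = CommRingCat.ofHom (algebraMap k K) } :=
  ((Scheme.SpecToEquivOfField K X).subtypeEquiv (q := fun p : Σ x, X.residueField x ⟶ CommRingCat.of K =>
      resMap f p.1 ≫ p.2 = CommRingCat.ofHom (algebraMap k K)) fun h => by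
        obtain ⟨p, rfl⟩ := (Scheme.SpecToEquivOfField K X).symm.surjective h
        rw [Equiv.apply_symm_apply]
        change (Spec.map p.2 ≫ X.fromSpecResidueField p.1) ≫ f = _ ↔ _
        rw [Category.assoc, ← SpecMap_resMap, ← Spec.map_comp, Spec.map_inj]).trans
    { toFun := fun p => ⟨p.1.1, p.1.2, p.2⟩
      invFun := fun p => ⟨⟨p.1, p.2.1⟩, p.2.2⟩
      left_inv := fun _ => rfl
      right_inv := fun _ => rfl }

/-- The point counts are those of `nPts`. -/
theorem pointCount_eq [Finite k] [LocallyOfFiniteType f] [QuasiCompact f] [Finite K] :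
    SgaExt.pointCount f K = Zeta.nPts f (Module.finrank k K) := by
  classical
  haveI : Module.Finite k K := Module.Finite.of_finite
  set m := Module.finrank k K
  set Q := Nat.card k ^ m with hQdef
  have hQ : Nat.card K = Q := Module.natCard_eq_pow_finrank
  have hm : m ≠ 0 := Module.finrank_pos.ne'
  let Ω := AlgebraicClosure k
  let σ : K →ₐ[k] Ω := IsAlgClosed.lift
  have hσ : Function.Injective σ := RingHom.injective σ.toRingHom
  letI := Fintype.ofFinite K
  have hfix : ∀ a : K, a ^ Q = a := fun a => by rw [← hQ, Nat.card_eq_fintype_card, FiniteField.pow_card]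
  have himg : ∀ z : Ω, z ^ Q = z → z ∈ Set.range σ := fun z hz => by
    have h1 : 1 < Q := one_lt_natCard_pow hm
    let p : Polynomial Ω := Polynomial.X ^ Q - Polynomial.X
    have hp0 : p ≠ 0 := FiniteField.X_pow_card_sub_X_ne_zero Ω h1
    let s : Finset Ω := Finset.univ.image σ
    have hs : s.card = Q := by
      rw [Finset.card_image_of_injective _ hσ, Finset.card_univ, ← Nat.card_eq_fintype_card, hQ]
    have hsub : s ⊆ p.roots.toFinset := fun w hw => by
      obtain ⟨a, -, rfl⟩ := Finset.mem_image.1 hw
      simp [p, hp0, ← map_pow, hfix]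
    have hle : p.roots.toFinset.card ≤ Q :=
      (Multiset.toFinset_card_le _).trans ((Polynomial.card_roots' p).trans
        (FiniteField.X_pow_card_sub_X_natDegree_eq Ω h1).le)
    have hzs : z ∈ s := by
      rw [Finset.eq_of_subset_of_card_le hsub (hs ▸ hle)]
      simp [p, hp0, hz]
    obtain ⟨a, -, rfl⟩ := Finset.mem_image.1 hzs
    exact ⟨a, rfl⟩
  let e : (Σ x : X, { ι : X.residueField x ⟶ CommRingCat.of K // resMap f x ≫ ι = CommRingCat.ofHom (algebraMap k K) }) →
      Σ x, FixedEmb f Ω Q x := fun s =>
    ⟨s.1, s.2.1 ≫ CommRingCat.ofHom σ.toRingHom, by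
      rw [← Category.assoc, s.2.2]
      ext r
      exact σ.commutes r,
      fun a => by
        change (σ (s.2.1 a)) ^ Q = σ (s.2.1 a)
        rw [← map_pow, hfix]⟩
  have he : Function.Bijective e := by
    constructor
    · rintro ⟨x, ι, h⟩ ⟨x', ι', h'⟩ e
      obtain rfl : x = x' := congrArg Sigma.fst e
      obtain rfl : ι = ι' := by
        have h2 := congrArg Subtype.val (eq_of_heq (Sigma.mk.inj_iff.1 e).2)
        ext a
        exact hσ (congrArg (fun f : X.residueField x ⟶ CommRingCat.of Ω => f.hom a) h2)
      rfl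
    · rintro ⟨x, ι, h1, h2⟩
      let τ := AlgEquiv.ofInjectiveField σ
      have hmem : ∀ a, ι.hom a ∈ σ.range := fun a => himg _ (h2 a)
      let ι' : X.residueField x →+* K := τ.symm.toRingEquiv.toRingHom.comp (ι.hom.codRestrict σ.range hmem)
      have hι' : ∀ a, σ (ι' a) = ι.hom a := fun a => by
        have := congrArg Subtype.val (τ.apply_symm_apply ⟨ι.hom a, hmem a⟩)
        exact this
      refine ⟨⟨x, CommRingCat.ofHom ι', ?_⟩, ?_⟩
      · ext r
        apply hσ
        change σ (ι' (resMap f x r)) = σ (algebraMap k K r)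
        rw [hι', σ.commutes]
        exact ConcreteCategory.congr_hom h1 r
      · refine Sigma.ext rfl (heq_of_eq (Subtype.ext ?_))
        ext a
        exact hι' a
  rw [SgaExt.pointCount, Nat.card_congr (pointsEquiv f K), Nat.card_eq_of_bijective e he,
    (natCard_fixedEmb_sigma f Ω hm).2]

/-- There are finitely many closed points of a given degree. -/
theorem finite_closed_deg [Finite k] [LocallyOfFiniteType f] [QuasiCompact f] {e : ℕ} (he : e ≠ 0) :
    {x : X | IsClosed ({x} : Set X) ∧ EGA4loc.residueDegree f x = e}.Finite := by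
  refine (finite_fixed_points (f := f) (k := AlgebraicClosure k) he).subset fun x hx => ?_
  obtain ⟨h1, h2⟩ := natCard_fixedEmb (f := f) (k := AlgebraicClosure k) hx.1 (dvd_of_eq hx.2)
  exact (Nat.card_pos_iff.1 (h1.symm ▸ Nat.pos_of_ne_zero h2)).1

end ZetaPtsLib

end
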