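import Groth.Agent.ZetaPtsLib.Basic
import Groth.Agent.ZetaPtsLib.Ext
import Groth.Agent.GenusZeroLib.PSmooth

/-!
# Rational points of projective space
-/

set_option linter.style.haveILetI false
set_option backward.isDefEq.respectTransparency false
set_option backward.isDefEq.respectTransparency.types false

noncomputable section

universe u

open CategoryTheory AlgebraicGeometry MvPolynomial HomogeneousLocalization GradedCechLib

namespace ZetaPtsLib

variable (n : ℕ) (k : Type u) [Field k]

/-- The chart ring is a polynomial ring. -/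
def chartEquiv (i : Fin (n + 1)) :
    MvPolynomial (Fin n) k ≃+* Away (CohB1.polyGrading n k) (X i : Poly n k) :=
  RingEquiv.ofBijective _ (GenusZeroLib.chartPoly_bijective n k i)

theorem chartι_toSpec (i : Fin (n + 1)) :
    chartι n k i ≫ CohB1.ProjSpace.toSpec n k = Spec.map (CommRingCat.ofHom (cst n k (X i : Poly n k))) := by
  change Proj.awayι (CohB1.polyGrading n k) (X i : Poly n k) (X_mem n k i) one_pos ≫
    Proj.toSpecZero (CohB1.polyGrading n k) ≫ Spec.map (CommRingCat.ofHom (algebraMap k (CohB1.polyGrading n k 0))) = _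
  rw [Proj.awayι_toSpecZero_assoc, ← Spec.map_comp]
  rfl

variable {K : Type u} [Field K]

theorem mem_stdOpen_iff (i j : Fin (n + 1)) (φ : Away (CohB1.polyGrading n k) (X i : Poly n k) →+* K)
    (z : Spec (CommRingCat.of K)) :
    (Spec.map (CommRingCat.ofHom φ) ≫ chartι n k i) z ∈ QCohLib.stdOpen n k j ↔ φ (deh₀ n k i (X j)) ≠ 0 := by
  have h := Proj.awayι_preimage_basicOpen (CohB1.polyGrading n k) (X_mem n k i) one_pos (X_mem n k j) one_pos
  have he : Away.isLocalizationElem (X_mem n k i) (X_mem n k j) = deh₀ n k i (X j) := by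
    rw [deh₀_X]
    refine HomogeneousLocalization.val_injective _ ?_
    simp only [Away.val_mk, pow_one]
  rw [he] at h
  change (Spec.map (CommRingCat.ofHom φ)) z ∈ chartι n k i ⁻¹ᵁ QCohLib.stdOpen n k j ↔ _
  rw [show chartι n k i ⁻¹ᵁ QCohLib.stdOpen n k j = PrimeSpectrum.basicOpen (deh₀ n k i (X j)) from h]
  have hz : z.asIdeal = ⊥ := z.asIdeal.eq_bot_of_prime
  change deh₀ n k i (X j) ∉ (PrimeSpectrum.comap φ z).asIdeal ↔ _
  rw [PrimeSpectrum.comap_asIdeal, Ideal.mem_comap, hz, Ideal.mem_bot]

variable [Algebra k K]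

/-- The ring map attached to coordinates in a chart. -/
def coordHom (i : Fin (n + 1)) (v : Fin n → K) : Away (CohB1.polyGrading n k) (X i : Poly n k) →+* K :=
  (eval₂Hom (algebraMap k K) v).comp (chartEquiv n k i).symm.toRingHom

theorem coordHom_cst (i : Fin (n + 1)) (v : Fin n → K) (r : k) :
    coordHom n k i v (cst n k (X i : Poly n k) r) = algebraMap k K r := by
  have h : cst n k (X i : Poly n k) r = chartEquiv n k i (C r) := (eval₂Hom_C _ _ r).symm
  rw [coordHom, RingHom.comp_apply, h]
  simp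

theorem coordHom_X (i : Fin (n + 1)) (v : Fin n → K) (l : Fin n) :
    coordHom n k i v (deh₀ n k i (X (i.succAbove l))) = v l := by
  have h : deh₀ n k i (X (i.succAbove l)) = chartEquiv n k i (X l) :=
    (eval₂Hom_X' (cst n k (X i : Poly n k)) (fun l => deh₀ n k i (X (i.succAbove l))) l).symm
  rw [coordHom, RingHom.comp_apply, h]
  simp

/-- Coordinates with the first `i` entries zero. -/
def fillIn (i : Fin (n + 1)) (w : {l : Fin n // (i : ℕ) ≤ l} → K) : Fin n → K :=
  fun l => if h : (i : ℕ) ≤ l then w ⟨l, h⟩ else 0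

variable (K) in
/-- Stratified coordinates give points. -/
def toPt (p : Σ i : Fin (n + 1), {l : Fin n // (i : ℕ) ≤ l} → K) :
    { g : Spec (CommRingCat.of K) ⟶ CohB1.ProjSpace n k //
      g ≫ CohB1.ProjSpace.toSpec n k = Spec.map (CommRingCat.ofHom (algebraMap k K)) } :=
  ⟨Spec.map (CommRingCat.ofHom (coordHom n k p.1 (fillIn n p.1 p.2))) ≫ chartι n k p.1, by
    rw [Category.assoc, chartι_toSpec, ← Spec.map_comp]
    congr 1
    ext r
    exact coordHom_cst n k _ _ r⟩

theorem toPt_mem_self (p : Σ i : Fin (n + 1), {l : Fin n // (i : ℕ) ≤ l} → K) (z : Spec (CommRingCat.of K)) :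
    (toPt n k K p).1 z ∈ QCohLib.stdOpen n k p.1 := by
  refine (mem_stdOpen_iff n k _ _ _ z).2 ?_
  rw [deh₀_X_self, map_one]
  exact one_ne_zero

theorem toPt_not_mem (p : Σ i : Fin (n + 1), {l : Fin n // (i : ℕ) ≤ l} → K) (z : Spec (CommRingCat.of K))
    (j : Fin (n + 1)) (hj : j < p.1) : (toPt n k K p).1 z ∉ QCohLib.stdOpen n k j := by
  intro h
  have h' := (mem_stdOpen_iff n k _ _ _ z).1 h
  obtain ⟨l, rfl⟩ := Fin.exists_succAbove_eq (ne_of_lt hj)
  refine h' ?_
  rw [coordHom_X, fillIn, dif_neg]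
  intro hle
  have h2 : p.1 ≤ l.castSucc := hle
  exact absurd hj (not_lt.2 ((Fin.succAbove_of_le_castSucc _ _ h2).ge.trans' (h2.trans (Fin.castSucc_le_succ l))))

theorem toPt_bijective : Function.Bijective (toPt n k K) := by
  classical
  let z₀ : Spec (CommRingCat.of K) := (⟨⊥, Ideal.isPrime_bot⟩ : PrimeSpectrum K)
  constructor
  · rintro ⟨i, w⟩ ⟨i', w'⟩ h
    have hi : i = i' := by
      by_contra hne
      rcases lt_or_gt_of_ne hne with hlt | hlt
      · exact toPt_not_mem n k ⟨i', w'⟩ z₀ i hlt (h ▸ toPt_mem_self n k ⟨i, w⟩ z₀)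
      · exact toPt_not_mem n k ⟨i, w⟩ z₀ i' hlt (h.symm ▸ toPt_mem_self n k ⟨i', w'⟩ z₀)
    subst hi
    haveI : IsOpenImmersion (chartι n k i) := by unfold chartι; infer_instance
    have h1 := congrArg Subtype.val h
    simp only [toPt, cancel_mono] at h1
    have h2 := Spec.map_injective h1
    congr 1
    funext l
    have h3 := ConcreteCategory.congr_hom h2 (deh₀ n k i (X (i.succAbove l.1)))
    change coordHom n k i _ _ = coordHom n k i _ _ at h3
    rw [coordHom_X, coordHom_X] at h3
    simp only [fillIn] at h3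
    rwa [dif_pos l.2, dif_pos l.2] at h3
  · rintro ⟨g, hg⟩
    have hex : ∃ i : Fin (n + 1), g z₀ ∈ QCohLib.stdOpen n k i :=
      TopologicalSpace.Opens.mem_iSup.1 ((QCohLib.iSup_stdOpen n k).ge trivial)
    let s := Finset.univ.filter fun i : Fin (n + 1) => g z₀ ∈ QCohLib.stdOpen n k i
    have hs : s.Nonempty := hex.imp fun i hi => Finset.mem_filter.2 ⟨Finset.mem_univ _, hi⟩
    set i := s.min' hs with hidef
    have hi : g z₀ ∈ QCohLib.stdOpen n k i := (Finset.mem_filter.1 (s.min'_mem hs)).2
    haveI : IsOpenImmersion (chartι n k i) := by unfold chartι; infer_instance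
    have hrange : Set.range g ⊆ Set.range (chartι n k i) := by
      rintro _ ⟨z, rfl⟩
      rw [show z = z₀ from PrimeSpectrum.ext (z.asIdeal.eq_bot_of_prime)]
      have hr : (chartι n k i).opensRange = QCohLib.stdOpen n k i :=
        Proj.opensRange_awayι _ _ _ _
      exact hr.ge hi
    obtain ⟨φ, hφ⟩ : ∃ φ, Spec.map φ = IsOpenImmersion.lift (chartι n k i) g hrange := ⟨_, Spec.map_preimage _⟩
    have hfac : Spec.map φ ≫ chartι n k i = g := by rw [hφ, IsOpenImmersion.lift_fac]
    have hcst : ∀ r, φ.hom (cst n k (X i : Poly n k) r) = algebraMap k K r := fun r => by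
      rw [← hfac, Category.assoc, chartι_toSpec, ← Spec.map_comp] at hg
      exact ConcreteCategory.congr_hom (Spec.map_injective hg) r
    let v : Fin n → K := fun l => φ.hom (deh₀ n k i (X (i.succAbove l)))
    refine ⟨⟨i, fun l => v l.1⟩, Subtype.ext ?_⟩
    show Spec.map (CommRingCat.ofHom (coordHom n k i (fillIn n i fun l => v l.1))) ≫ chartι n k i = g
    refine Eq.trans ?_ hfac
    congr 2
    have hv : (fillIn n i fun l => v l.1) = v := by
      funext l
      rw [fillIn]
      split_ifs with hl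
      · rfl
      · by_contra hne
        have hlt : i.succAbove l < i := by
          have : l.castSucc < i := by
            show (l : ℕ) < i
            omega
          rwa [Fin.succAbove_of_castSucc_lt _ _ this]
        have hmem : g z₀ ∈ QCohLib.stdOpen n k (i.succAbove l) := by
          rw [← hfac]
          exact (mem_stdOpen_iff n k i _ φ.hom z₀).2 fun h0 => hne h0.symm
        exact absurd (s.min'_le _ (Finset.mem_filter.2 ⟨Finset.mem_univ _, hmem⟩)) (not_le.2 hlt)
    refine CommRingCat.hom_ext ?_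
    rw [hv]
    refine RingHom.ext fun a => ?_
    obtain ⟨p, rfl⟩ := (chartEquiv n k i).surjective a
    have : coordHom n k i v (chartEquiv n k i p) = eval₂Hom (algebraMap k K) v p := by simp [coordHom]
    change coordHom n k i v (chartEquiv n k i p) = φ.hom (chartEquiv n k i p)
    rw [this]
    have hc : φ.hom.comp (chartEquiv n k i).toRingHom = eval₂Hom (algebraMap k K) v := by
      refine MvPolynomial.ringHom_ext (fun r => ?_) fun l => ?_
      · rw [eval₂Hom_C]
        refine Eq.trans (congrArg φ.hom ?_) (hcst r)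
        exact eval₂Hom_C _ _ r
      · rw [eval₂Hom_X']
        exact congrArg φ.hom (eval₂Hom_X' _ _ l)
    exact (RingHom.congr_fun hc p).symm

theorem nPts_projSpace [Finite k] {m : ℕ} (hm : m ≠ 0) :
    Zeta.nPts (CohB1.ProjSpace.toSpec n k) m = ∑ i ∈ Finset.range (n + 1), Nat.card k ^ (i * m) := by
  haveI : Smooth (CohB1.ProjSpace.toSpec n k) := GenusZeroLib.smooth_toSpec n k
  haveI : QuasiCompact (CohB1.ProjSpace.toSpec n k) := by
    haveI : CompactSpace (CohB1.ProjSpace n k) := by
      refine ⟨?_⟩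
      rw [show (Set.univ : Set (CohB1.ProjSpace n k)) = ⋃ i, (QCohLib.stdOpen n k i : Set (CohB1.ProjSpace n k)) by
        rw [← TopologicalSpace.Opens.coe_iSup, QCohLib.iSup_stdOpen]; rfl]
      exact isCompact_iUnion fun i => (Proj.isAffineOpen_basicOpen (CohB1.polyGrading n k) (X i : Poly n k) (X_mem n k i) one_pos).isCompact
    infer_instance
  obtain ⟨K, _, _, _, hK⟩ := exists_ext k hm
  haveI : Module.Finite k K := Module.Finite.of_finite
  rw [← hK, ← pointCount_eq, SgaExt.pointCount, ← Nat.card_eq_of_bijective _ (toPt_bijective n k (K := K)),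
    Nat.card_sigma, ← Fin.sum_univ_eq_sum_range (fun i => Nat.card k ^ (i * Module.finrank k K)),
    ← Equiv.sum_comp Fin.revPerm]
  refine Finset.sum_congr rfl fun i _ => ?_
  rw [Nat.card_fun, Module.natCard_eq_pow_finrank (K := k) (V := K), ← pow_mul, Nat.mul_comm]
  congr 2
  let e : {l : Fin n // ((Fin.revPerm i : Fin (n + 1)) : ℕ) ≤ l} ≃ Fin (i : ℕ) :=
    { toFun := fun l => ⟨(l.1 : ℕ) - (n - i), by have := l.2; have := l.1.2; have := i.2; simp [Fin.val_rev] at *; omega⟩
      invFun := fun j => ⟨⟨(j : ℕ) + (n - i), by have := j.2; have := i.2; omega⟩, by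
        have := i.2; simp [Fin.val_rev]⟩
      left_inv := fun l => by
        have := l.2; have := i.2; apply Subtype.ext; apply Fin.ext; simp [Fin.val_rev] at *; omega
      right_inv := fun j => by apply Fin.ext; simp }
  rw [Nat.card_congr e, Nat.card_fin]

end ZetaPtsLib

end
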